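import Groth.Agent.Abvar.Square.Main
import Groth.Agent.Abvar.Square.Chains
import Groth.Agent.PicAux.Hartogs
import Groth.Agent.CIntNormal.ConeNormal
import Groth.Agent.S1561
import Groth.Prelude.Def_AlgGrp
import Groth.Prelude.Def_Pic13

/-!
# Actions of connected groups and algebraic equivalence
-/

universe u

open CategoryTheory Limits MonoidalCategory CartesianMonoidalCategory MonObj AlgebraicGeometry
  TopologicalSpace

namespace Groth.Abvar.Square

open PicCalc

variable {k : Type u} [Field k]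

local notation "pt" => (𝟙_ (Over (Spec (CommRingCat.of k))))

variable {G X T U V W : Over (Spec (CommRingCat.of k))}

theorem le_one_of_not_two_le {d : WithBot ℕ∞} (h : ¬ (2 : WithBot ℕ∞) ≤ d) : d ≤ 1 := by
  rcases d with _ | d
  · exact bot_le
  · refine WithBot.coe_le_coe.2 (Order.le_of_lt_add_one ?_)
    rw [one_add_one_eq_two]
    exact not_le.1 fun h2 => h (WithBot.coe_le_coe.2 h2)

/-- The square relation for chained points. -/
theorem rect_eq_one_chained [IsAlgClosed k] [Smooth W.hom] [ConnectedSpace W.left]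
    (c : PicLoc.PicSet (U ⊗ V ⊗ W).left) {a₀ a₁ : pt ⟶ U} {b₀ b₁ : pt ⟶ V}
    (ha : Chained U a₀ a₁) (hb : Chained V b₀ b₁) : rect c a₀ a₁ b₀ b₁ = 1 := by
  have swap_left : ∀ a a' b b', rect c a a' b b' = 1 → rect c a' a b b' = 1 := fun a a' b b' h => by
    have e := rect_chain_left c a a' a b b'
    rwa [h, _root_.one_mul, rect_self_left] at e
  have swap_right : ∀ a a' b b', rect c a a' b b' = 1 → rect c a a' b' b = 1 := fun a a' b b' h => by
    have e := rect_chain_right c a a' b b' b
    rwa [h, _root_.one_mul, rect_self_right] at e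
  have hl : ∀ a a', Linked U a a' → rect c a a' b₀ b₁ = 1 := fun a a' h => by
    induction hb with
    | rel x y hxy => exact rect_eq_one_linked c h hxy
    | refl x => exact rect_self_right c _ _ _
    | symm x y _ ih => exact swap_right _ _ _ _ ih
    | trans x y z _ _ h₁ h₂ => rw [← rect_chain_right c a a' x y z, h₁, h₂, _root_.one_mul]
  induction ha with
  | rel x y hxy => exact hl _ _ hxy
  | refl x => exact rect_self_left c _ _ _
  | symm x y _ ih => exact swap_left _ _ _ _ ih
  | trans x y z _ _ h₁ h₂ => rw [← rect_chain_left c x y z, h₁, h₂, _root_.one_mul]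

/-- A slice of a product, as a morphism over the field. -/
theorem lift_left_eq_sliceAt (X T : Over (Spec (CommRingCat.of k))) (x : pt ⟶ T) :
    (lift (𝟙 X) (toUnit X ≫ x)).left =
      @Pic13.sliceAt k _ X.left ⟨X.hom⟩ T.left T.hom x.left (Over.w x) := by
  refine pullback.hom_ext ?_ ?_
  · exact (congrArg Over.Hom.left (lift_fst (𝟙 X) (toUnit X ≫ x))).trans (pullback.lift_fst _ _ _).symm
  · refine (congrArg Over.Hom.left (lift_snd (𝟙 X) (toUnit X ≫ x))).trans ?_
    rw [Over.comp_left, Over.toUnit_left]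
    exact (pullback.lift_snd _ _ _).symm

section
variable [GrpObj G]

theorem one_translate (a : AlgGrp.Action G X) :
    lift (toUnit X ≫ η[G]) (𝟙 X) ≫ a.act = 𝟙 X := by
  have h : lift (toUnit X ≫ η[G]) (𝟙 X) = (λ_ X).inv ≫ η[G] ▷ X := by ext <;> simp
  rw [h, Category.assoc, a.one_act, Iso.inv_hom_id]

/-- A connected group acts trivially on the classes modulo algebraic equivalence. -/
theorem isAlgEquivZero_translate_tensor [LocallyOfFiniteType G.hom] [QuasiCompact G.hom]
    [ConnectedSpace G.left] (a : AlgGrp.Action G X) (g : pt ⟶ G) {L M : X.left.Modules}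
    (hL : PicF.IsInvertible L) (hM : PicF.IsInvertible M)
    (hLM : Nonempty (CohB1.tensorMod L M ≅ Coh.structureModule X.left)) :
    @Pic13.IsAlgEquivZero k _ X.left ⟨X.hom⟩
      (CohB1.tensorMod ((Scheme.Modules.pullback (lift (toUnit X ≫ g) (𝟙 X) ≫ a.act).left).obj L) M) := by
  let φ : X ⊗ G ⟶ X := lift (snd X G) (fst X G) ≫ a.act
  have h1 := PicLoc.isInvertible_pullback φ.left hL
  have h2 := PicLoc.isInvertible_pullback (fst X G).left hM
  have hF := isInvertible_tensorMod h1 h2
  have ht := PicLoc.isInvertible_pullback (lift (toUnit X ≫ g) (𝟙 X) ≫ a.act).left hL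
  have hLM' : cls hL * cls hM = 1 :=
    (cls_tensorMod hL hM).symm.trans ((nonempty_iso_structure_iff (isInvertible_tensorMod hL hM)).1 hLM)
  have key : ∀ x : pt ⟶ G, opull (lift (𝟙 X) (toUnit X ≫ x)) (cls hF) =
      opull (lift (toUnit X ≫ x) (𝟙 X) ≫ a.act) (cls hL) * cls hM := fun x => by
    rw [cls_tensorMod h1 h2, ← pull_cls _ hL, ← pull_cls _ hM, map_mul]
    show opull (lift (𝟙 X) (toUnit X ≫ x)) (opull φ (cls hL)) *
      opull (lift (𝟙 X) (toUnit X ≫ x)) (opull (fst X G) (cls hM)) = _
    rw [← opull_comp, ← opull_comp, lift_fst, opull_id]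
    congr 1
    congr 2
    rw [← Category.assoc]
    congr 1
    simp [comp_lift]
  refine ⟨G.left, G.hom, ‹_›, ‹_›, ‹_›, _, hF, g.left, (η[G]).left, Over.w g, Over.w η[G], ?_, ?_⟩
  · rw [Pic13.fibreMod, ← lift_left_eq_sliceAt]
    exact (nonempty_iso_iff (PicLoc.isInvertible_pullback (lift (𝟙 X) (toUnit X ≫ g)).left hF)
      (isInvertible_tensorMod ht hM)).2 ((pull_cls _ hF).symm.trans ((key g).trans
        ((congrArg (· * cls hM) (pull_cls _ hL)).trans (cls_tensorMod ht hM).symm)))
  · rw [Pic13.fibreMod, ← lift_left_eq_sliceAt]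
    exact (nonempty_iso_structure_iff (PicLoc.isInvertible_pullback (lift (𝟙 X) (toUnit X ≫ η[G])).left hF)).2
      ((pull_cls _ hF).symm.trans ((key η[G]).trans (by rw [one_translate, opull_id, hLM'])))

/-- On a normal variety a connected group fixes the classes algebraically equivalent to zero. -/
theorem nonempty_iso_translate_of_isAlgEquivZero [IsAlgClosed k] [LocallyOfFiniteType G.hom]
    [QuasiCompact G.hom] [ConnectedSpace G.left] [IsIntegral X.left] [LocallyOfFiniteType X.hom]
    (hn : Pi1.IsNormalScheme X.left) (a : AlgGrp.Action G X) (g : pt ⟶ G) {L : X.left.Modules}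
    (hL : PicF.IsInvertible L) (h0 : @Pic13.IsAlgEquivZero k _ X.left ⟨X.hom⟩ L) :
    Nonempty ((Scheme.Modules.pullback (lift (toUnit X ≫ g) (𝟙 X) ≫ a.act).left).obj L ≅ L) := by
  obtain ⟨T₀, q, _, _, _, M, hM, t, t₀, ht, ht₀, ⟨e⟩, ⟨e₀⟩⟩ := h0
  let T : Over (Spec (CommRingCat.of k)) := Over.mk q
  have : LocallyOfFiniteType T.hom := inferInstanceAs (LocallyOfFiniteType q)
  have : QuasiCompact T.hom := inferInstanceAs (QuasiCompact q)
  have : ConnectedSpace T.left := inferInstanceAs (ConnectedSpace T₀)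
  let s : pt ⟶ T := Over.homMk t ht
  let s₀ : pt ⟶ T := Over.homMk t₀ ht₀
  let m : PicLoc.PicSet (X ⊗ T).left := cls (L := (M : (X ⊗ T).left.Modules)) hM
  have hs : opull (lift (𝟙 X) (toUnit X ≫ s)) m = cls hL :=
    (congrArg (fun f => pull f m) (lift_left_eq_sliceAt X T s)).trans
      ((pull_cls _ hM).trans ((nonempty_iso_iff _ hL).1 ⟨e⟩))
  have hs₀ : opull (lift (𝟙 X) (toUnit X ≫ s₀)) m = 1 :=
    (congrArg (fun f => pull f m) (lift_left_eq_sliceAt X T s₀)).trans
      ((pull_cls _ hM).trans ((nonempty_iso_structure_iff _).1 ⟨e₀⟩))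
  have := LocallyOfFiniteType.isLocallyNoetherian X.hom
  have : LocallyOfFinitePresentation X.hom :=
    Seesaw.locallyOfFinitePresentation_of_isNoetherian X.hom
  let O : X.left.Opens := X.hom.smoothLocus
  have hO : (O : Set X.left).Nonempty :=
    ⟨_, Scheme.Hom.genericPoint_mem_smoothLocus_of_perfectField X.hom⟩
  have : Nonempty (O : Scheme.{u}) := ⟨⟨_, hO.choose_spec⟩⟩
  let S : Over (Spec (CommRingCat.of k)) := Over.mk (O.ι ≫ X.hom)
  let i : S ⟶ X := Over.homMk O.ι rfl
  have : Smooth S.hom := by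
    show Smooth (O.ι ≫ X.hom)
    refine Scheme.Hom.smoothLocus_eq_top_iff.1 ?_
    rw [← Scheme.Hom.preimage_smoothLocus_eq]
    exact Scheme.Opens.ι_preimage_self O
  have : IsIntegral S.left := inferInstanceAs (IsIntegral (O : Scheme.{u}))
  let c : PicLoc.PicSet (G ⊗ T ⊗ S).left :=
    opull (lift (lift (fst G (T ⊗ S)) (snd G (T ⊗ S) ≫ snd T S ≫ i) ≫ a.act)
      (snd G (T ⊗ S) ≫ fst T S)) m
  let tr (x : pt ⟶ G) : X ⟶ X := lift (toUnit X ≫ x) (𝟙 X) ≫ a.act
  have hev : ∀ (x : pt ⟶ G) (y : pt ⟶ T),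
      opull (ev S x y) c = opull (i ≫ tr x) (opull (lift (𝟙 X) (toUnit X ≫ y)) m) := fun x y => by
    simp only [c, tr, ← opull_comp, ev, comp_lift, Category.comp_id, Category.assoc,
      lift_fst, lift_snd_assoc, lift_fst_assoc, lift_snd, Category.id_comp]
    congr 2
    · simp [comp_lift_assoc, reassoc_of% (comp_toUnit i)]
  have key := rect_eq_one_chained c (chained_of_connected G η[G] g) (chained_of_connected T s₀ s)
  rw [rect, hev, hev, hev, hev, hs, hs₀, map_one, map_one] at key
  simp only [tr, one_translate, Category.comp_id, _root_.one_mul, _root_.mul_one, div_eq_one] at key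
  -- extension over the smooth locus
  have hcodim : ∀ x : X.left, x ∉ O → (2 : WithBot ℕ∞) ≤ ringKrullDim (X.left.presheaf.stalk x) := by
    intro x hx
    by_contra hlt
    refine hx ?_
    have := (hn x).1
    have := (hn x).2
    let : X.left.Over (Spec (CommRingCat.of k)) := ⟨X.hom⟩
    have : LocallyOfFinitePresentation (X.left ↘ Spec (CommRingCat.of k)) :=
      inferInstanceAs (LocallyOfFinitePresentation X.hom)
    exact ((Groth.Agent.S1561.result k X.left).1 x).2
      (Groth.CIntNormal.isRegularLocalRing_of_normal_dim_le_one (le_one_of_not_two_le hlt))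
  have hfun := PicAux.funBij_of_two_le_dim (fun x => ⟨(hn x).1, (hn x).2⟩) hcodim
  have htL := PicLoc.isInvertible_pullback (tr g).left hL
  obtain ⟨N, hN, eN⟩ := PicGrp.exists_eq_cls (opull (tr g) (cls hL) / cls hL)
  have hN1 : cls hN = 1 := by
    refine (nonempty_iso_structure_iff hN).1
      (PicAux.nonempty_iso_of_secBij hfun (PicAux.secBij_of_isInvertible hfun hN) ?_)
    refine Nonempty.map (fun j => (Scheme.Modules.restrictFunctorIsoPullback O.ι).app N ≪≫ j) ?_
    rw [nonempty_iso_structure_iff (PicLoc.isInvertible_pullback _ hN), ← pull_cls _ hN]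
    refine (congrArg (opull i) eN).symm.trans ?_
    rw [map_div, ← opull_comp, div_eq_one]
    exact key
  rw [nonempty_iso_iff htL hL, ← pull_cls _ hL]
  exact div_eq_one.1 (eN.trans hN1)

end

end Groth.Abvar.Square
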